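import Mathlib
import Cfsg.Agent.H648.Dict
import Cfsg.Agent.H649.Transport
import Cfsg.Agent.S0912
import Cfsg.Agent.S0917
import Cfsg.Agent.S0919
import Cfsg.Agent.S0920
set_option linter.all false

/-!
# Brauer's first main theorem over any `H ≥ N_G(P)`, with Brauer-map images

`Cor M p P b B`: the block `b` of `N_G(P)` and the block `B` of `G` have defect group `P`, `b`
induces `B`, and the idempotent of `b` is the truncation to `C_G(P)` of the idempotent of `B`.

* `exists_cor_of_block`, `exists_cor_of_block'`: the correspondence for `N_G(P)`.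
* `exists_over_of_block`, `exists_block_of_over`: the correspondence between the blocks of `G` and
  of `H ≥ N_G(P)` with defect group `P`; induction and equality of the Brauer images.
-/

set_option autoImplicit false
set_option linter.unusedSectionVars false

open Cfsg

namespace Cfsg.Agent.H648.FirstMain

open Cfsg.Agent.H644 Cfsg.Agent.Blocks.Local Cfsg.Agent.Blocks.MinMax
open Cfsg.Agent.Blocks.ConvCentral Cfsg.Agent.H648.Dict
open Cfsg.Agent.Blocks.Basic (isPBlock_nonempty isPBlock_mem_iff isPBlock_eq_of_mem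
  isPBlock_eq_blockOf isPBlock_sameBlock isPBlock_mem_of_sameBlock isPBlock_blockOf
  mem_blockOf_self isPGroup_of_isDefectGroup)

variable {p : ℕ} [Fact p.Prime] {M : Ideal AlgInt} [M.IsPrime] {G : Type*} [Group G] [Finite G]

theorem centralizer_le_normalizer (P : Subgroup G) :
    Subgroup.centralizer (P : Set G) ≤ Subgroup.normalizer (P : Set G) :=
  Subgroup.centralizer_le_normalizer _

instance normal_subgroupOf_normalizer (P : Subgroup G) :
    (P.subgroupOf (Subgroup.normalizer (P : Set G))).Normal := Subgroup.normal_in_normalizer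

/-- The truncation to `C_G(P)` of a central element, in the group algebra of `N_G(P)`. -/
noncomputable def tr (P : Subgroup G) (x : MonoidAlgebra (ResField M) G) :
    MonoidAlgebra (ResField M) (Subgroup.normalizer (P : Set G)) :=
  res (Subgroup.normalizer (P : Set G)) (emb _ (br P x))

theorem emb_tr (P : Subgroup G) (x : MonoidAlgebra (ResField M) G) :
    emb _ (tr P x) = emb _ (br P x) := by
  refine CoverAlg.emb_res_of_supp fun g hg => ?_
  exact coeff_emb_of_notMem _ fun h => hg (centralizer_le_normalizer P h)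

theorem coeff_tr_of_mem {P : Subgroup G} (x : MonoidAlgebra (ResField M) G)
    {g : Subgroup.normalizer (P : Set G)} (hg : (g : G) ∈ Subgroup.centralizer (P : Set G)) :
    (tr P x).coeff g = x.coeff (g : G) := by
  rw [tr, coeff_res, coeff_emb_of_mem _ hg, coeff_br]

theorem coeff_tr_of_notMem {P : Subgroup G} (x : MonoidAlgebra (ResField M) G)
    {g : Subgroup.normalizer (P : Set G)} (hg : (g : G) ∉ Subgroup.centralizer (P : Set G)) :
    (tr P x).coeff g = 0 := by
  rw [tr, coeff_res, coeff_emb_of_notMem _ hg]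

theorem conj_mem_centralizer_iff {P : Subgroup G} {u : G}
    (hu : u ∈ Subgroup.normalizer (P : Set G)) (g : G) :
    u * g * u⁻¹ ∈ Subgroup.centralizer (P : Set G) ↔ g ∈ Subgroup.centralizer (P : Set G) :=
  (mem_iff_conj_mem_of_mem_normalizer (mem_normalizer_centralizer hu) g).symm

theorem isCls_tr (P : Subgroup G) {x : MonoidAlgebra (ResField M) G} (hx : IsCls x) :
    IsCls (tr P x) := by
  intro g h
  by_cases hg : (g : G) ∈ Subgroup.centralizer (P : Set G)
  · have h1 : ((h * g * h⁻¹ : Subgroup.normalizer (P : Set G)) : G) ∈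
        Subgroup.centralizer (P : Set G) := by
      push_cast
      exact (conj_mem_centralizer_iff h.2 _).2 hg
    rw [coeff_tr_of_mem x h1, coeff_tr_of_mem x hg]
    push_cast
    exact hx _ _
  · have h1 : ((h * g * h⁻¹ : Subgroup.normalizer (P : Set G)) : G) ∉
        Subgroup.centralizer (P : Set G) := by
      push_cast
      exact fun h' => hg ((conj_mem_centralizer_iff h.2 _).1 h')
    rw [coeff_tr_of_notMem x h1, coeff_tr_of_notMem x hg]

theorem tr_mul (hM : IsPModular p M) {P : Subgroup G} (hP : IsPGroup p P)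
    {x y : MonoidAlgebra (ResField M) G} (hx : IsCls x) (hy : IsCls y) :
    tr P (x * y) = tr P x * tr P y := by
  have := charP_resField hM
  apply emb_injective
  rw [map_mul, emb_tr, emb_tr, emb_tr, br_mul hP (isInv_of_isCls hx P) (isInv_of_isCls hy P),
    map_mul]

/-- Central characters of `N_G(P)` only see the coefficients on `C_G(P)`. -/
theorem lam_tr (hM : IsPModular p M) {P : Subgroup G} (hP : IsPGroup p P)
    (ξ : IrrCharacter (Subgroup.normalizer (P : Set G))) {x : MonoidAlgebra (ResField M) G}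
    (hx : IsCls x) : lam M (ξ : Subgroup.normalizer (P : Set G) → ℂ) (tr P x) =
      lam M (ξ : Subgroup.normalizer (P : Set G) → ℂ) (res _ x) := by
  have h1 : lam M (ξ : Subgroup.normalizer (P : Set G) → ℂ) (res _ x - tr P x) =
      (0 : MonoidAlgebra (ResField M) (Subgroup.normalizer (P : Set G)) →ₗ[ResField M]
        ResField M) (res _ x - tr P x) := by
    refine eq_of_clsSum (isCls_sub (isCls_res (isInv_of_isCls hx _)) (isCls_tr P hx))
      fun g hg => ?_
    rw [LinearMap.zero_apply, lam_clsSum, redC_eq_zero_iff (memLocalRing_centralChar ξ g)]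
    have hgC : (g : G) ∉ Subgroup.centralizer (P : Set G) := by
      intro h
      apply hg
      rw [MonoidAlgebra.coeff_sub, Finsupp.sub_apply, coeff_tr_of_mem x h, coeff_res, sub_self]
    refine Cfsg.Agent.Blocks.BrauerMap.memLocalIdeal_centralChar_of_notMem hM ξ.2
      (P.subgroupOf (Subgroup.normalizer (P : Set G))) hP.comap_subtype g fun h => hgC ?_
    rw [Subgroup.mem_centralizer_iff] at h ⊢
    intro q hq
    exact congrArg Subtype.val (h ⟨q, Subgroup.le_normalizer hq⟩ (by
      rw [SetLike.mem_coe, Subgroup.mem_subgroupOf]; exact hq))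
  rw [map_sub, LinearMap.zero_apply, sub_eq_zero] at h1
  exact h1.symm

/-- The block `b` of `N_G(P)` corresponds to the block `B` of `G`. -/
structure Cor (p : ℕ) (M : Ideal AlgInt) [M.IsPrime] (P : Subgroup G)
    (b : Set (IrrCharacter (Subgroup.normalizer (P : Set G)))) (B : Set (IrrCharacter G)) :
    Prop where
  isPBlock_b : IsPBlock M b
  isPBlock_B : IsPBlock M B
  defect_b : IsDefectGroup p M b (P.subgroupOf (Subgroup.normalizer (P : Set G)))
  defect_B : IsDefectGroup p M B P
  ind : IsInducedBlock M (Subgroup.normalizer (P : Set G)) b B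
  eq_tr : idem M b = tr P (idem M B)

/-- Every block of `G` with defect group `P` has a correspondent. -/
theorem exists_cor_of_block (hM : IsPModular p M) {P : Subgroup G} {B : Set (IrrCharacter G)}
    (hB : IsPBlock M B) (hPB : IsDefectGroup p M B P) : ∃ b, Cor p M P b B := by
  have hP := isPGroup_of_isDefectGroup hPB
  obtain ⟨b, ⟨hb, hdb, hind⟩, huniq⟩ := (Cfsg.Agent.S0920.result p M hM P hP).2 B hB hPB
  refine ⟨b, hb, hB, hdb, hPB, hind, ?_⟩
  have hcls := isCls_tr (M := M) P (isCls_idem (M := M) B)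
  have hidem : tr P (idem M B) * tr P (idem M B) = tr P (idem M B) := by
    rw [← tr_mul hM hP (isCls_idem B) (isCls_idem B), idem_mul_self hM (isUnion_of_isPBlock hB)]
  rw [eq_idem_suppSet hM hcls hidem]
  congr 1
  ext ξ
  obtain ⟨χ, hχ⟩ := isPBlock_nonempty hB
  constructor
  · intro hξ
    change lam M (ξ : Subgroup.normalizer (P : Set G) → ℂ) (tr P (idem M B)) = 1
    rw [lam_tr hM hP ξ (isCls_idem B), (isInducedBlock_iff.1 hind).2.2 ξ hξ χ hχ _ (isCls_idem B),
      lam_idem_of_mem hM (isUnion_of_isPBlock hB) hχ]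
  · intro hξ
    change lam M (ξ : Subgroup.normalizer (P : Set G) → ℂ) (tr P (idem M B)) = 1 at hξ
    rw [lam_tr hM hP ξ (isCls_idem B)] at hξ
    obtain ⟨B', hB'⟩ := Cfsg.Agent.S0919.result p M hM P (Subgroup.normalizer (P : Set G)) hP
      Subgroup.le_normalizer (centralizer_le_normalizer P) le_rfl
      (blockOf M (ξ : Subgroup.normalizer (P : Set G) → ℂ))
      (isPBlock_blockOf ξ)
    obtain ⟨χ', hχ'⟩ := isPBlock_nonempty hB'.2.1
    have h1 : lam M (χ' : G → ℂ) (idem M B) = 1 := by
      rw [← (isInducedBlock_iff.1 hB').2.2 ξ (mem_blockOf_self ξ) χ' hχ' _ (isCls_idem B), hξ]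
    have h2 : χ' ∈ B := (lam_idem_eq_one_iff hM (isUnion_of_isPBlock hB)).1 h1
    have h3 : B' = B := isPBlock_eq_of_mem hB'.2.1 hB hχ' h2
    rw [h3] at hB'
    -- the defect group of the block of `ξ`
    obtain ⟨D, hD⟩ := exists_isDefectGroup hM (isPBlock_blockOf (M := M) ξ)
    obtain ⟨E, hE, hDE⟩ := Cfsg.Agent.S0917.result p M hM _ _ (isPBlock_blockOf ξ) B hB hB' D hD
    have h4 : P.subgroupOf (Subgroup.normalizer (P : Set G)) ≤ D := by
      refine le_trans ?_ (Cfsg.Agent.S0912.result p M hM _ (isPBlock_blockOf ξ) D hD)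
      exact le_sSup ⟨normal_subgroupOf_normalizer P, hP.comap_subtype⟩
    have h5 : Nat.card D ≤ Nat.card (P.subgroupOf (Subgroup.normalizer (P : Set G))) := by
      rw [Nat.card_congr (Subgroup.subgroupOfEquivOfLe Subgroup.le_normalizer).toEquiv,
        card_eq_of_isDefectGroup hM hB hPB hE,
        Nat.card_congr (D.equivMapOfInjective _ (Subgroup.subtype_injective _)).toEquiv]
      exact Subgroup.card_le_of_le hDE
    have h6 := Subgroup.eq_of_le_of_card_ge h4 h5
    have h7 := huniq _ ⟨isPBlock_blockOf ξ, by rw [h6]; exact hD, hB'⟩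
    rw [← h7]
    exact mem_blockOf_self ξ

/-- Every block of `N_G(P)` with defect group `P` has a correspondent. -/
theorem exists_cor_of_block' (hM : IsPModular p M) {P : Subgroup G} (hP : IsPGroup p P)
    {b : Set (IrrCharacter (Subgroup.normalizer (P : Set G)))}
    (hb : IsPBlock M b)
    (hdb : IsDefectGroup p M b (P.subgroupOf (Subgroup.normalizer (P : Set G)))) :
    ∃ B, Cor p M P b B := by
  obtain ⟨B, hB, hdB, hind⟩ := (Cfsg.Agent.S0920.result p M hM P hP).1 b hb hdb
  obtain ⟨b', hb'⟩ := exists_cor_of_block hM hB hdB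
  obtain ⟨b₀, -, huniq⟩ := (Cfsg.Agent.S0920.result p M hM P hP).2 B hB hdB
  have h1 : b = b' := by
    rw [huniq b ⟨hb, hdb, hind⟩, huniq b' ⟨hb'.isPBlock_b, hb'.defect_b, hb'.ind⟩]
  rw [h1]
  exact ⟨B, hb'⟩

section Over

variable {P H : Subgroup G}

theorem mem_normalizer_subgroupOf_iff (hPH : P ≤ H) (h : H) :
    h ∈ Subgroup.normalizer ((P.subgroupOf H : Subgroup H) : Set H) ↔
      (h : G) ∈ Subgroup.normalizer (P : Set G) := by
  rw [Subgroup.mem_normalizer_iff, Subgroup.mem_normalizer_iff]
  constructor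
  · intro hh g
    constructor
    · intro hg
      have h1 := (hh ⟨g, hPH hg⟩).1 (by rw [Subgroup.mem_subgroupOf]; exact hg)
      rw [Subgroup.mem_subgroupOf] at h1
      exact h1
    · intro hg
      have h2 : g ∈ H := by
        have h3 := H.mul_mem (H.mul_mem (H.inv_mem h.2) (hPH hg)) h.2
        simpa [mul_assoc] using h3
      have h1 := (hh ⟨g, h2⟩).2 (by rw [Subgroup.mem_subgroupOf]; exact hg)
      rw [Subgroup.mem_subgroupOf] at h1
      exact h1
  · intro hh g
    rw [Subgroup.mem_subgroupOf, Subgroup.mem_subgroupOf]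
    exact hh g

/-- `N_H(P)` computed inside `H` and inside `G`. -/
def nEquiv (hPH : P ≤ H) (hH : Subgroup.normalizer (P : Set G) ≤ H) :
    Subgroup.normalizer ((P.subgroupOf H : Subgroup H) : Set H) ≃*
      Subgroup.normalizer (P : Set G) where
  toFun n := ⟨((n : H) : G), (mem_normalizer_subgroupOf_iff hPH _).1 n.2⟩
  invFun n := ⟨⟨n, hH n.2⟩, (mem_normalizer_subgroupOf_iff hPH _).2 n.2⟩
  left_inv _ := rfl
  right_inv _ := rfl
  map_mul' _ _ := rfl

theorem map_nEquiv (hPH : P ≤ H) (hH : Subgroup.normalizer (P : Set G) ≤ H) :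
    ((P.subgroupOf H).subgroupOf
      (Subgroup.normalizer ((P.subgroupOf H : Subgroup H) : Set H))).map
        (nEquiv hPH hH).toMonoidHom = P.subgroupOf (Subgroup.normalizer (P : Set G)) := by
  ext n
  rw [Subgroup.mem_subgroupOf]
  constructor
  · rintro ⟨m, hm, rfl⟩
    exact hm
  · intro hn
    exact ⟨(nEquiv hPH hH).symm n, hn, (nEquiv hPH hH).apply_symm_apply n⟩

/-- The conclusion of the correspondence between blocks of `H` and of `G` with defect group `P`. -/
structure Over (p : ℕ) (M : Ideal AlgInt) [M.IsPrime] (P H : Subgroup G)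
    (c : Set (IrrCharacter H)) (B : Set (IrrCharacter G)) : Prop where
  isPBlock_c : IsPBlock M c
  isPBlock_B : IsPBlock M B
  defect_c : IsDefectGroup p M c (P.subgroupOf H)
  defect_B : IsDefectGroup p M B P
  ind : IsInducedBlock M H c B
  br_eq : br P (idem M B) = br P (emb H (idem M c))

theorem over_of_cor (hM : IsPModular p M) (hP : IsPGroup p P) (hPH : P ≤ H)
    (hH : Subgroup.normalizer (P : Set G) ≤ H)
    {b' : Set (IrrCharacter (Subgroup.normalizer ((P.subgroupOf H : Subgroup H) : Set H)))}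
    {c : Set (IrrCharacter H)} {B : Set (IrrCharacter G)}
    (h1 : Cor p M (P.subgroupOf H) b' c)
    (h2 : Cor p M P (Cfsg.Agent.H649.blkMap (nEquiv hPH hH) b') B) : Over p M P H c B := by
  refine ⟨h1.isPBlock_B, h2.isPBlock_B, h1.defect_B, h2.defect_B, ?_, ?_⟩
  · obtain ⟨ξ, hξ⟩ := isPBlock_nonempty h1.isPBlock_b
    obtain ⟨ζ, hζ⟩ := isPBlock_nonempty h1.isPBlock_B
    obtain ⟨χ, hχ⟩ := isPBlock_nonempty h2.isPBlock_B
    refine isInducedBlock_of_mem h1.isPBlock_B h2.isPBlock_B hζ hχ fun x hx => ?_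
    have hx' : IsCls (res H x) := isCls_res (isInv_of_isCls hx H)
    rw [← (isInducedBlock_iff.1 h1.ind).2.2 ξ hξ ζ hζ _ hx']
    have hξ' : irrMap (nEquiv hPH hH) ξ ∈ Cfsg.Agent.H649.blkMap (nEquiv hPH hH) b' :=
      ⟨ξ, hξ, rfl⟩
    rw [← (isInducedBlock_iff.1 h2.ind).2.2 _ hξ' χ hχ _ hx]
    exact (lam_irrMap (nEquiv hPH hH) ξ (isCls_res (isInv_of_isCls hx' _)) fun n => rfl).symm
  · refine ext_coeff fun g => ?_
    have hgN : (g : G) ∈ Subgroup.normalizer (P : Set G) := centralizer_le_normalizer P g.2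
    have hgH : (g : G) ∈ H := hH hgN
    have hgC' : (⟨g, hgH⟩ : H) ∈ Subgroup.centralizer ((P.subgroupOf H : Subgroup H) : Set H) := by
      rw [Subgroup.mem_centralizer_iff]
      intro q hq
      rw [SetLike.mem_coe, Subgroup.mem_subgroupOf] at hq
      exact Subtype.ext ((Subgroup.mem_centralizer_iff.1 g.2) _ hq)
    rw [coeff_br, coeff_br, coeff_emb_of_mem _ hgH]
    have e1 := congrArg (fun z => z.coeff (⟨g, hgN⟩ : Subgroup.normalizer (P : Set G))) h2.eq_tr
    have e2 := congrArg (fun z => z.coeff ((nEquiv hPH hH).symm ⟨g, hgN⟩)) h1.eq_tr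
    rw [coeff_tr_of_mem _ (by exact g.2)] at e1
    rw [coeff_tr_of_mem _ (by exact hgC')] at e2
    have e3 := coeff_idem_irrMap (M := M) (nEquiv hPH hH) b' ((nEquiv hPH hH).symm ⟨g, hgN⟩)
    rw [MulEquiv.apply_symm_apply] at e3
    change (idem M B).coeff (g : G) = (idem M c).coeff ⟨g, hgH⟩
    change _ = (idem M B).coeff (g : G) at e1
    change _ = (idem M c).coeff ⟨g, hgH⟩ at e2
    rw [← e1, ← e2]
    exact e3

/-- The first main theorem from `G` down to `H ≥ N_G(P)`. -/
theorem exists_over_of_block (hM : IsPModular p M) (hH : Subgroup.normalizer (P : Set G) ≤ H)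
    {B : Set (IrrCharacter G)} (hB : IsPBlock M B) (hPB : IsDefectGroup p M B P) :
    ∃ c, Over p M P H c B := by
  have hP := isPGroup_of_isDefectGroup hPB
  have hPH : P ≤ H := Subgroup.le_normalizer.trans hH
  obtain ⟨b, hb⟩ := exists_cor_of_block hM hB hPB
  have hd : IsDefectGroup p M (Cfsg.Agent.H649.blkMap (nEquiv hPH hH).symm b)
      ((P.subgroupOf H).subgroupOf
        (Subgroup.normalizer ((P.subgroupOf H : Subgroup H) : Set H))) := by
    rw [← Cfsg.Agent.H649.isDefectGroup_blkMap_iff (e := nEquiv hPH hH),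
      Cfsg.Agent.H649.blkMap_blkMap_symm, map_nEquiv]
    exact hb.defect_b
  obtain ⟨c, hc⟩ := exists_cor_of_block' (P := P.subgroupOf H) hM hP.comap_subtype
    (Cfsg.Agent.H649.isPBlock_blkMap hb.isPBlock_b) hd
  refine ⟨c, over_of_cor hM hP hPH hH hc ?_⟩
  rw [Cfsg.Agent.H649.blkMap_blkMap_symm]
  exact hb

/-- The first main theorem from `H ≥ N_G(P)` up to `G`. -/
theorem exists_block_of_over (hM : IsPModular p M) (hP : IsPGroup p P)
    (hH : Subgroup.normalizer (P : Set G) ≤ H) {c : Set (IrrCharacter H)} (hc : IsPBlock M c)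
    (hPc : IsDefectGroup p M c (P.subgroupOf H)) : ∃ B, Over p M P H c B := by
  have hPH : P ≤ H := Subgroup.le_normalizer.trans hH
  obtain ⟨b', hb'⟩ := exists_cor_of_block hM hc hPc
  have hd : IsDefectGroup p M (Cfsg.Agent.H649.blkMap (nEquiv hPH hH) b')
      (P.subgroupOf (Subgroup.normalizer (P : Set G))) := by
    rw [← map_nEquiv hPH hH, Cfsg.Agent.H649.isDefectGroup_blkMap_iff]
    exact hb'.defect_b
  obtain ⟨B, hB⟩ := exists_cor_of_block' hM hP
    (Cfsg.Agent.H649.isPBlock_blkMap hb'.isPBlock_b) hd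
  exact ⟨B, over_of_cor hM hP hPH hH hb' hB⟩

/-- A block of `H` with defect group `P` is determined by its Brauer image at `P`. -/
theorem eq_of_br_eq (hM : IsPModular p M) (hP : IsPGroup p P) (hPH : P ≤ H)
    {c c' : Set (IrrCharacter H)} (hc : IsPBlock M c) (hc' : IsPBlock M c')
    (hne : br P (emb H (idem M c)) ≠ 0)
    (h : br P (emb H (idem M c)) = br P (emb H (idem M c'))) : c = c' := by
  have := charP_resField hM
  by_contra hcc
  apply hne
  have hinv : ∀ c : Set (IrrCharacter H), IsInv P (emb H (idem M c)) := fun c =>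
    isInv_mono hPH (isInv_emb (isCls_idem c))
  calc br P (emb H (idem M c)) = br P (emb H (idem M c) * emb H (idem M c)) := by
        rw [← map_mul, idem_mul_self hM (isUnion_of_isPBlock hc)]
    _ = br P (emb H (idem M c)) * br P (emb H (idem M c)) := br_mul hP (hinv c) (hinv c)
    _ = br P (emb H (idem M c)) * br P (emb H (idem M c')) := by rw [← h]
    _ = br P (emb H (idem M c) * emb H (idem M c')) := (br_mul hP (hinv c) (hinv c')).symm
    _ = 0 := by rw [← map_mul, idem_mul_idem_of_ne hM hc hc' hcc, map_zero, map_zero]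

/-- The case `H = G`. -/
theorem eq_of_br_eq_top (hM : IsPModular p M) (hP : IsPGroup p P)
    {B B' : Set (IrrCharacter G)} (hB : IsPBlock M B) (hB' : IsPBlock M B')
    (hne : br P (idem M B) ≠ 0) (h : br P (idem M B) = br P (idem M B')) : B = B' := by
  have := charP_resField hM
  by_contra hcc
  apply hne
  have hinv : ∀ c : Set (IrrCharacter G), IsInv P (idem M c) := fun c =>
    isInv_of_isCls (isCls_idem c) P
  calc br P (idem M B) = br P (idem M B * idem M B) := by
        rw [idem_mul_self hM (isUnion_of_isPBlock hB)]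
    _ = br P (idem M B) * br P (idem M B) := br_mul hP (hinv B) (hinv B)
    _ = br P (idem M B) * br P (idem M B') := by rw [← h]
    _ = br P (idem M B * idem M B') := (br_mul hP (hinv B) (hinv B')).symm
    _ = 0 := by rw [idem_mul_idem_of_ne hM hB hB' hcc, map_zero]

/-- Equality of Brauer images in terms of coefficients. -/
theorem br_eq_iff (hM : IsPModular p M) {B : Set (IrrCharacter G)} (hB : IsPBlock M B)
    {c : Set (IrrCharacter H)} (hc : IsPBlock M c) :
    br P (idem M B) = br P (emb H (idem M c)) ↔ ∀ x : G, x ∈ Subgroup.centralizer (P : Set G) →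
      MemLocalIdeal M (blockCoeff B x - subgroupBlockCoeff H c x) := by
  have hR : ∀ g, MemLocalRing M (blockCoeff B g) :=
    memLocalRing_blockCoeff hM (isUnion_of_isPBlock hB)
  have hR' : ∀ g, MemLocalRing M (subgroupBlockCoeff H c g) :=
    memLocalRing_subgroupBlockCoeff hM (isUnion_of_isPBlock hc)
  have key : ∀ x : G, (idem M B).coeff x = (emb H (idem M c)).coeff x ↔
      MemLocalIdeal M (blockCoeff B x - subgroupBlockCoeff H c x) := by
    intro x
    rw [← toK_subgroupBlockCoeff, coeff_idem, coeff_toK, redC_eq_iff (hR x) (hR' x)]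
  constructor
  · intro h x hx
    rw [← key]
    exact congrArg (fun z => z.coeff ⟨x, hx⟩) h
  · intro h
    refine ext_coeff fun g => ?_
    rw [coeff_br, coeff_br, key]
    exact h g g.2

end Over

end Cfsg.Agent.H648.FirstMain
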