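import Mathlib
import Cfsg.Prelude.Def_Blocks
import Cfsg.Prelude.Def_BlockRank
import Cfsg.Agent.H646.RegInner
import Cfsg.Agent.Blocks.ClassSum
import Cfsg.Agent.S0914
set_option linter.all false

/-!
# The integers `p ^ d * [χ⁰, ψ]` of a block, for `χ` of height zero

`B` is a `p`-block of defect `d`, `χ ∈ B` has height zero.

* `exists_int_height`: for `ψ ∈ B`, `p ^ d * [χ⁰, ψ]` is an integer whose `p`-part is exactly
  `p ^ (height of ψ)`; in particular it is not zero.
* `sum_sq`: `∑_{ψ ∈ B} [χ⁰, ψ] ^ 2 = [χ⁰, χ]`.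
* `brauer_feit`: `4 * ∑_{ψ ∈ B} p ^ (2 * ht ψ) ≤ p ^ (2 * d) + 4`.
-/

set_option autoImplicit false

namespace Cfsg.Agent.H648.HeightForm

open Cfsg
open scoped ComplexConjugate
open Cfsg.Agent
open Cfsg.Agent.H646.RegInner

variable {G : Type*} [Group G] [Fintype G] {p : ℕ} {M : Ideal AlgInt}

theorem finsum_mem_filter {α A : Type*} [Fintype α] [AddCommMonoid A] (s : Set α)
    [DecidablePred (· ∈ s)] (f : α → A) : ∑ᶠ a ∈ s, f a = ∑ a with a ∈ s, f a := by
  rw [finsum_mem_eq_finite_toFinset_sum _ (Set.toFinite _)]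
  refine Finset.sum_congr ?_ fun _ _ => rfl
  ext a
  simp

/-- The integer-valued form is symmetric on irreducible characters. -/
theorem form_symm [Fact p.Prime] (χ ψ : IrrCharacter G) :
    classInner (pRegularPart p (χ : G → ℂ)) (ψ : G → ℂ) =
      classInner (pRegularPart p (ψ : G → ℂ)) (χ : G → ℂ) := by
  have hp : p.Prime := Fact.out
  have h1 : conj (classInner (pRegularPart p (χ : G → ℂ)) (ψ : G → ℂ)) =
      classInner (pRegularPart p (ψ : G → ℂ)) (χ : G → ℂ) := by
    rw [Characters.Core.classInner_conj_symm, Blocks.Basic.classInner_def,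
      Blocks.Basic.classInner_def]
    congr 1
    refine Finset.sum_congr rfl fun g _ => ?_
    rw [pRegularPart_apply, pRegularPart_apply]
    split_ifs <;> simp
  obtain ⟨n, hn⟩ := exists_int_pow_full (p := p) χ ψ
  have hne : ((p ^ (Nat.card G).factorization p : ℕ) : ℂ) ≠ 0 := by
    exact_mod_cast pow_ne_zero _ hp.ne_zero
  have h2 : classInner (pRegularPart p (χ : G → ℂ)) (ψ : G → ℂ) =
      (n : ℂ) / ((p ^ (Nat.card G).factorization p : ℕ) : ℂ) := by
    rw [← hn]; field_simp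
  rw [← h1, h2, map_div₀]
  simp

/-- Congruence of the scaled form along a block. -/
theorem form_congr [M.IsPrime] {χ ψ : IrrCharacter G} (h : SameBlock M (χ : G → ℂ) (ψ : G → ℂ))
    (θ : IrrCharacter G) :
    MemLocalIdeal M ((Nat.card G : ℂ) / (χ : G → ℂ) 1 *
        classInner (pRegularPart p (χ : G → ℂ)) (θ : G → ℂ) -
      (Nat.card G : ℂ) / (ψ : G → ℂ) 1 *
        classInner (pRegularPart p (ψ : G → ℂ)) (θ : G → ℂ)) := by
  have hne : (Nat.card G : ℂ) ≠ 0 := by exact_mod_cast Nat.card_pos.ne'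
  have key : ∀ χ : G → ℂ, (Nat.card G : ℂ) / χ 1 *
        classInner (pRegularPart p χ) (θ : G → ℂ) =
      ∑ g : G, pRegularPart p (fun g => conj ((θ : G → ℂ) g)) g * (χ g / χ 1) := by
    intro χ
    rw [Blocks.Basic.classInner_def]
    have h2 : ∑ g, pRegularPart p χ g * conj ((θ : G → ℂ) g) =
        ∑ g, pRegularPart p (fun g => conj ((θ : G → ℂ) g)) g * χ g := by
      refine Finset.sum_congr rfl fun g _ => ?_
      rw [pRegularPart_apply, pRegularPart_apply]
      split_ifs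
      · simp
      · ring
    rw [h2]
    simp_rw [← mul_div_assoc]
    rw [← Finset.sum_div]
    field_simp
  rw [key, key]
  refine Blocks.ClassSum.memLocalIdeal_of_sameBlock (Blocks.Basic.irr_isClassFunction χ.2)
    (Blocks.Basic.irr_isClassFunction ψ.2) h ?_ ?_
  · refine isClassFunction_pRegularPart fun g h => ?_
    rw [Blocks.Basic.irr_isClassFunction θ.2 g h]
  · intro g
    refine Blocks.Local.memLocalRing_of_isIntegral ?_
    rw [pRegularPart_apply]
    split_ifs
    · exact isIntegral_zero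
    · rw [← Blocks.Orthogonality.irr_apply_inv θ.2]
      exact Blocks.Central.isIntegral_irr θ.2 _

/-- A generalized character vanishing on the `p`-singular elements has degree divisible by the
`p`-part of the group order. -/
theorem dvd_of_vanish [Fact p.Prime] [Fintype (IrrCharacter G)] {f : G → ℂ}
    (n : IrrCharacter G → ℤ) (hf : ∀ g, f g = ∑ ψ, (n ψ : ℂ) * (ψ : G → ℂ) g)
    (h0 : ∀ g, p ∣ orderOf g → f g = 0) :
    ∃ k : ℤ, f 1 = (p ^ (Nat.card G).factorization p : ℂ) * k := by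
  classical
  have hp : p.Prime := Fact.out
  obtain ⟨P, hP2, hPcard⟩ : ∃ P : Subgroup G, IsPGroup p P ∧
      Nat.card P = p ^ (Nat.card G).factorization p := by
    obtain ⟨P⟩ : Nonempty (Sylow p G) := inferInstance
    exact ⟨P, P.2, P.card_eq_multiplicity⟩
  have hsum : ∑ x : P, f x = f 1 := by
    rw [Finset.sum_eq_single (1 : P)]
    · rw [Subgroup.coe_one]
    · intro x _ hx
      refine h0 _ ?_
      obtain ⟨k, hk⟩ := (IsPGroup.iff_orderOf.mp hP2) x
      have hk' : orderOf (x : G) = p ^ k := by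
        rw [← hk]; exact Subgroup.orderOf_coe x
      rw [hk']
      refine dvd_pow_self p ?_
      rintro rfl
      rw [pow_zero, orderOf_eq_one_iff] at hk
      exact hx hk
    · intro h
      exact absurd (Finset.mem_univ _) h
  have hsub : ∀ ψ : IrrCharacter G, ∃ m : ℕ, ∑ x : P, (ψ : G → ℂ) x = (Nat.card P : ℂ) * m := by
    intro ψ
    obtain ⟨m, hm⟩ := Characters.Core.classInner_isNat
      (Characters.Core.isCharacter_comp P.subtype (Blocks.Basic.irr_isCharacter ψ.2))
      (Characters.Core.isCharacter_one (G := P))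
    refine ⟨m, ?_⟩
    rw [← hm, Characters.Core.classInner_def, ← mul_assoc,
      mul_inv_cancel₀ Characters.Core.card_ne_zero_complex, one_mul]
    refine Finset.sum_congr rfl fun x _ => ?_
    simp
  choose m hm using hsub
  refine ⟨∑ ψ, n ψ * m ψ, ?_⟩
  rw [← hsum]
  simp_rw [hf]
  rw [Finset.sum_comm]
  push_cast
  rw [Finset.mul_sum]
  refine Finset.sum_congr rfl fun ψ _ => ?_
  rw [← Finset.mul_sum, hm ψ, hPcard]
  push_cast
  ring

/-- The exponents: `d + v(ψ(1)) = a + ht(ψ)`. -/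
theorem defect_add (B : Set (IrrCharacter G)) {ψ : IrrCharacter G} (hψ : ψ ∈ B) :
    blockDefect p B + (charDegree (ψ : G → ℂ)).factorization p =
      (Nat.card G).factorization p + blockHeight p B (ψ : G → ℂ) := by
  rw [Blocks.Basic.blockDefect_def, Blocks.Basic.blockHeight_def]
  have h : sInf ((fun χ : IrrCharacter G => (charDegree (χ : G → ℂ)).factorization p) '' B) ≤
      (charDegree (ψ : G → ℂ)).factorization p :=
    Nat.sInf_le ⟨ψ, hψ, rfl⟩
  have h2 : (charDegree (ψ : G → ℂ)).factorization p ≤ (Nat.card G).factorization p :=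
    (Nat.factorization_le_iff_dvd (Blocks.Basic.charDegree_pos ψ.2).ne' Nat.card_pos.ne').2
      (S0914.degree_spec ψ).2.2 p
  omega

omit [Fintype G] in
/-- A block has a member of height zero. -/
theorem exists_height_zero {B : Set (IrrCharacter G)} (hB : IsPBlock M B) [M.IsPrime] :
    ∃ χ ∈ B, blockHeight p B (χ : G → ℂ) = 0 := by
  obtain ⟨χ₀, rfl⟩ := hB
  have hne : ((fun χ : IrrCharacter G => (charDegree (χ : G → ℂ)).factorization p) ''
      (blockOf M (χ₀ : G → ℂ))).Nonempty :=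
    ⟨_, χ₀, Blocks.Basic.mem_blockOf_self χ₀, rfl⟩
  obtain ⟨χ, hχ, h⟩ := Nat.sInf_mem hne
  refine ⟨χ, hχ, ?_⟩
  rw [Blocks.Basic.blockHeight_def, ← h]
  simp

/-- Writing `p ^ d * [χ⁰, ψ]` as `p ^ ht(χ)` times a unit times the scaled form. -/
theorem scaled_eq [Fact p.Prime] (hM : IsPModular p M) {B : Set (IrrCharacter G)}
    {χ : IrrCharacter G} (hχ : χ ∈ B) (c : ℂ) :
    ∃ u : ℂ, MemLocalRing M u ∧ MemLocalRing M u⁻¹ ∧ u ≠ 0 ∧
      ((p ^ blockDefect p B : ℕ) : ℂ) * c =
        ((p ^ blockHeight p B (χ : G → ℂ) : ℕ) : ℂ) *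
          (u * ((Nat.card G : ℂ) / (χ : G → ℂ) 1 * c)) := by
  have hp : p.Prime := Fact.out
  have hP : M.IsPrime := hM.2.1.isPrime
  have hadd := defect_add (p := p) B hχ
  rw [Blocks.Basic.irr_one_eq_charDegree χ.2]
  set a := (Nat.card G).factorization p with ha
  set v := (charDegree (χ : G → ℂ)).factorization p with hv
  set n := Nat.card G with hn
  set m := charDegree (χ : G → ℂ) with hm
  have hn0 : n ≠ 0 := Nat.card_pos.ne'
  have hm0 : m ≠ 0 := (Blocks.Basic.charDegree_pos χ.2).ne'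
  have hn1 : p ^ a * (n / p ^ a) = n := Nat.ordProj_mul_ordCompl_eq_self n p
  have hm1 : p ^ v * (m / p ^ v) = m := Nat.ordProj_mul_ordCompl_eq_self m p
  have hn2 : ¬ p ∣ n / p ^ a := Nat.not_dvd_ordCompl hp hn0
  have hm2 : ¬ p ∣ m / p ^ v := Nat.not_dvd_ordCompl hp hm0
  have hn3 : ((n / p ^ a : ℕ) : ℂ) ≠ 0 := by
    intro h
    apply hn2
    have : n / p ^ a = 0 := by exact_mod_cast h
    rw [this]; exact dvd_zero p
  have hm3 : ((m / p ^ v : ℕ) : ℂ) ≠ 0 := by
    intro h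
    apply hm2
    have : m / p ^ v = 0 := by exact_mod_cast h
    rw [this]; exact dvd_zero p
  have hp0 : (p : ℂ) ≠ 0 := by exact_mod_cast hp.ne_zero
  refine ⟨((m / p ^ v : ℕ) : ℂ) * ((n / p ^ a : ℕ) : ℂ)⁻¹, ?_, ?_, ?_, ?_⟩
  · exact Blocks.Local.memLocalRing_mul (Blocks.Local.memLocalRing_natCast _)
      (Blocks.Local.memLocalRing_inv_natCast hM hn2)
  · rw [mul_inv, inv_inv, mul_comm]
    exact Blocks.Local.memLocalRing_mul (Blocks.Local.memLocalRing_natCast _)
      (Blocks.Local.memLocalRing_inv_natCast hM hm2)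
  · exact mul_ne_zero hm3 (inv_ne_zero hn3)
  · have h3 : (n : ℂ) = (p : ℂ) ^ a * ((n / p ^ a : ℕ) : ℂ) := by
      conv_lhs => rw [← hn1]
      push_cast
      rfl
    have h4 : (m : ℂ) = (p : ℂ) ^ v * ((m / p ^ v : ℕ) : ℂ) := by
      conv_lhs => rw [← hm1]
      push_cast
      rfl
    have h5 : (p : ℂ) ^ blockDefect p B * (p : ℂ) ^ v =
        (p : ℂ) ^ a * (p : ℂ) ^ blockHeight p B (χ : G → ℂ) := by
      rw [← pow_add, ← pow_add, hadd]
    rw [h3, h4]
    generalize ((n / p ^ a : ℕ) : ℂ) = X at *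
    push_cast
    generalize hY : (((m / p ^ v : ℕ) : ℂ)) = Y at *
    field_simp
    linear_combination c * h5

/-- For a member `θ` of height zero, the scaled form is a unit at every member. -/
theorem scaled_not_mem [Fact p.Prime] (hM : IsPModular p M) {B : Set (IrrCharacter G)}
    (hB : IsPBlock M B) {θ ψ : IrrCharacter G} (hθ : θ ∈ B)
    (h0 : blockHeight p B (θ : G → ℂ) = 0) (hψ : ψ ∈ B) :
    ¬ MemLocalIdeal M ((Nat.card G : ℂ) / (ψ : G → ℂ) 1 *
      classInner (pRegularPart p (ψ : G → ℂ)) (θ : G → ℂ)) := by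
  classical
  have hp : p.Prime := Fact.out
  have hP : M.IsPrime := hM.2.1.isPrime
  have hfin : Finite (IrrCharacter G) := S0909.finite_irr
  have := Fintype.ofFinite (IrrCharacter G)
  intro hmem
  -- all scaled forms lie in the local ideal
  have hall : ∀ φ : IrrCharacter G, φ ∈ B → MemLocalIdeal M ((Nat.card G : ℂ) / (φ : G → ℂ) 1 *
      classInner (pRegularPart p (φ : G → ℂ)) (θ : G → ℂ)) := by
    intro φ hφ
    obtain ⟨χ₀, rfl⟩ := hB
    have hs : SameBlock M (φ : G → ℂ) (ψ : G → ℂ) := by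
      intro g
      have h1 : MemLocalIdeal M (centralChar (χ₀ : G → ℂ) g - centralChar (φ : G → ℂ) g) := hφ g
      have h2 : MemLocalIdeal M (centralChar (χ₀ : G → ℂ) g - centralChar (ψ : G → ℂ) g) := hψ g
      exact Blocks.Local.memLocalIdeal_sub_trans (Blocks.Local.memLocalIdeal_sub_comm h1) h2
    exact (Blocks.Local.memLocalIdeal_iff_of_sub (form_congr (p := p) hs θ)).2 hmem
  -- hence `p` divides all `p ^ d * [θ⁰, φ]`
  have hdiv : ∀ φ : IrrCharacter G, ∃ n : ℤ, ((p ^ blockDefect p B : ℕ) : ℂ) *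
      classInner (pRegularPart p (θ : G → ℂ)) (φ : G → ℂ) = ((p : ℤ) * n : ℤ) := by
    intro φ
    by_cases hφ : φ ∈ B
    · obtain ⟨n, hn⟩ := exists_int_pow_defect hM hθ φ
      have h1 : MemLocalIdeal M (n : ℂ) := by
        rw [← hn, form_symm]
        obtain ⟨u, hu, -, -, he⟩ := scaled_eq (p := p) hM hφ
          (classInner (pRegularPart p (φ : G → ℂ)) (θ : G → ℂ))
        rw [he]
        exact Blocks.Local.memLocalIdeal_mul_left (Blocks.Local.memLocalRing_natCast _)
          (Blocks.Local.memLocalIdeal_mul_left hu (hall φ hφ))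
      rw [Blocks.Local.memLocalIdeal_intCast_iff hM] at h1
      obtain ⟨k, rfl⟩ := h1
      exact ⟨k, hn⟩
    · refine ⟨0, ?_⟩
      rw [classInner_pRegularPart_eq_zero hM hB hθ hφ]
      simp
  choose n hn using hdiv
  -- the generalized character `p ^ d / p * θ⁰`
  have hpc : (p : ℂ) ≠ 0 := by exact_mod_cast hp.ne_zero
  set f : G → ℂ := fun g => ((p ^ blockDefect p B : ℕ) : ℂ) / p * pRegularPart p (θ : G → ℂ) g
    with hf
  obtain ⟨k, hk⟩ := dvd_of_vanish (p := p) (f := f) n (by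
      intro g
      have hcl := isClassFunction_pRegularPart (p := p) (Blocks.Basic.irr_isClassFunction θ.2)
      rw [hf]
      dsimp only
      conv_lhs => rw [Characters.Core.classFunction_eq_sum hcl]
      rw [Finset.sum_apply, Finset.mul_sum]
      refine Finset.sum_congr rfl fun φ _ => ?_
      rw [Pi.smul_apply, smul_eq_mul]
      have := hn φ
      push_cast at this
      have h2 : (n φ : ℂ) = ((p ^ blockDefect p B : ℕ) : ℂ) / p *
          classInner (pRegularPart p (θ : G → ℂ)) (φ : G → ℂ) := by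
        push_cast
        field_simp
        rw [this, mul_comm]
      rw [h2]
      ring) (by
      intro g hg
      rw [hf]
      dsimp only
      rw [pRegularPart_of_dvd hg, mul_zero])
  -- degrees
  have h1 : f 1 = ((p ^ blockDefect p B : ℕ) : ℂ) / p * (charDegree (θ : G → ℂ) : ℂ) := by
    rw [hf]
    dsimp only
    rw [pRegularPart_of_not_dvd, Blocks.Basic.irr_one_eq_charDegree θ.2]
    rw [orderOf_one]; exact fun h => hp.one_lt.ne' (Nat.dvd_one.mp h)
  rw [h1] at hk
  have h2 : (((p : ℤ) ^ blockDefect p B * (charDegree (θ : G → ℂ) : ℤ) : ℤ) : ℂ) =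
      (((p : ℤ) ^ ((Nat.card G).factorization p + 1) * k : ℤ) : ℂ) := by
    push_cast at hk ⊢
    field_simp at hk
    rw [hk]
    ring
  have h3 : (p : ℤ) ^ blockDefect p B * (charDegree (θ : G → ℂ) : ℤ) =
      (p : ℤ) ^ ((Nat.card G).factorization p + 1) * k := by exact_mod_cast h2
  have h4 : p ^ ((Nat.card G).factorization p + 1) ∣
      p ^ blockDefect p B * charDegree (θ : G → ℂ) := by
    have : ((p ^ ((Nat.card G).factorization p + 1) : ℕ) : ℤ) ∣
        ((p ^ blockDefect p B * charDegree (θ : G → ℂ) : ℕ) : ℤ) := by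
      push_cast
      exact ⟨k, h3⟩
    exact_mod_cast this
  have hne : p ^ blockDefect p B * charDegree (θ : G → ℂ) ≠ 0 :=
    mul_ne_zero (pow_ne_zero _ hp.ne_zero) (Blocks.Basic.charDegree_pos θ.2).ne'
  rw [hp.pow_dvd_iff_le_factorization hne] at h4
  rw [Nat.factorization_mul (pow_ne_zero _ hp.ne_zero) (Blocks.Basic.charDegree_pos θ.2).ne',
    Nat.factorization_pow] at h4
  simp only [Finsupp.coe_add, Finsupp.coe_smul, Pi.add_apply, Pi.smul_apply, smul_eq_mul,
    hp.factorization_self, mul_one] at h4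
  have h5 := defect_add (p := p) B hθ
  rw [h0] at h5
  omega

/-- For `χ` of height zero and `ψ` in the block, `p ^ d * [χ⁰, ψ]` is an integer with `p`-part
`p ^ ht(ψ)`. -/
theorem exists_int_height [Fact p.Prime] (hM : IsPModular p M) {B : Set (IrrCharacter G)}
    (hB : IsPBlock M B) {χ ψ : IrrCharacter G} (hχ : χ ∈ B)
    (h0 : blockHeight p B (χ : G → ℂ) = 0) (hψ : ψ ∈ B) :
    ∃ n : ℤ, ((p ^ blockDefect p B : ℕ) : ℂ) *
      classInner (pRegularPart p (χ : G → ℂ)) (ψ : G → ℂ) = n ∧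
      (p : ℤ) ^ blockHeight p B (ψ : G → ℂ) ∣ n ∧
      ¬ (p : ℤ) ^ (blockHeight p B (ψ : G → ℂ) + 1) ∣ n := by
  have hp : p.Prime := Fact.out
  have hP : M.IsPrime := hM.2.1.isPrime
  obtain ⟨n, hn⟩ := exists_int_pow_defect hM hχ ψ
  obtain ⟨u, hu, hu', hu0, he⟩ := scaled_eq (p := p) hM hψ
    (classInner (pRegularPart p (ψ : G → ℂ)) (χ : G → ℂ))
  have hint : MemLocalRing M ((Nat.card G : ℂ) / (ψ : G → ℂ) 1 *
      classInner (pRegularPart p (ψ : G → ℂ)) (χ : G → ℂ)) :=
    Blocks.Local.memLocalRing_of_isIntegral (isIntegral_card_div ψ χ)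
  have hnot := scaled_not_mem hM hB hχ h0 hψ
  set h := blockHeight p B (ψ : G → ℂ) with hh
  set w : ℂ := u * ((Nat.card G : ℂ) / (ψ : G → ℂ) 1 *
      classInner (pRegularPart p (ψ : G → ℂ)) (χ : G → ℂ)) with hw
  have hw1 : MemLocalRing M w := Blocks.Local.memLocalRing_mul hu hint
  have hw2 : ¬ MemLocalIdeal M w := by
    intro hm
    apply hnot
    have := Blocks.Local.memLocalIdeal_mul_left hu' hm
    rwa [hw, ← mul_assoc, inv_mul_cancel₀ hu0, one_mul] at this
  rw [form_symm] at hn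
  rw [he] at hn
  -- `p ^ h * w = n`
  have hpc : (p : ℂ) ≠ 0 := by exact_mod_cast hp.ne_zero
  have hwz : ∃ m : ℤ, w = m := by
    exact exists_int_of_memLocalRing hM hn hw1
  obtain ⟨m, hm⟩ := hwz
  have hnm : n = (p : ℤ) ^ h * m := by
    rw [hm] at hn
    push_cast at hn
    exact_mod_cast hn.symm
  refine ⟨n, ?_, ⟨m, hnm⟩, ?_⟩
  · rw [form_symm, he, ← hn]
  · rintro ⟨k, hk⟩
    apply hw2
    rw [hm, Blocks.Local.memLocalIdeal_intCast_iff hM]
    refine ⟨k, ?_⟩
    rw [hnm, pow_succ, mul_assoc] at hk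
    exact mul_left_cancel₀ (pow_ne_zero _ (by exact_mod_cast hp.ne_zero)) hk

/-- `∑_{ψ ∈ B} [χ⁰, ψ] ^ 2 = [χ⁰, χ]`. -/
theorem sum_sq [Fact p.Prime] (hM : IsPModular p M) {B : Set (IrrCharacter G)}
    (hB : IsPBlock M B) [Fintype (IrrCharacter G)] [DecidablePred (· ∈ B)]
    {χ : IrrCharacter G} (hχ : χ ∈ B) :
    ∑ ψ : IrrCharacter G with ψ ∈ B,
      classInner (pRegularPart p (χ : G → ℂ)) (ψ : G → ℂ) ^ 2 =
      classInner (pRegularPart p (χ : G → ℂ)) (χ : G → ℂ) := by
  have h1 : classInner (pRegularPart p (χ : G → ℂ)) (χ : G → ℂ) =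
      classInner (pRegularPart p (χ : G → ℂ)) (pRegularPart p (χ : G → ℂ)) := by
    rw [Blocks.Basic.classInner_def, Blocks.Basic.classInner_def]
    congr 1
    refine Finset.sum_congr rfl fun g _ => ?_
    rw [pRegularPart_apply]
    split_ifs <;> simp
  rw [h1]
  conv_rhs => rw [pRegularPart_eq_sum hM hB hχ]
  rw [Characters.Core.classInner_sum_left]
  refine Finset.sum_congr rfl fun ψ hψ => ?_
  have hψB : ψ ∈ B := by simpa using hψ
  rw [Characters.Core.classInner_smul_left, sq]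
  congr 1
  have h2 : ∀ φ : IrrCharacter G, conj (classInner (pRegularPart p (χ : G → ℂ)) (φ : G → ℂ)) =
      classInner (pRegularPart p (χ : G → ℂ)) (φ : G → ℂ) := by
    intro φ
    have hp : p.Prime := Fact.out
    obtain ⟨n, hn⟩ := exists_int_pow_full (p := p) χ φ
    have hne : ((p ^ (Nat.card G).factorization p : ℕ) : ℂ) ≠ 0 := by
      exact_mod_cast pow_ne_zero _ hp.ne_zero
    have h2 : classInner (pRegularPart p (χ : G → ℂ)) (φ : G → ℂ) =
        (n : ℂ) / ((p ^ (Nat.card G).factorization p : ℕ) : ℂ) := by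
      rw [← hn]; field_simp
    rw [h2, map_div₀]
    simp
  have h3 : pRegularPart p (χ : G → ℂ) = ∑ φ : IrrCharacter G with φ ∈ B,
      classInner (pRegularPart p (χ : G → ℂ)) (φ : G → ℂ) • (φ : G → ℂ) :=
    pRegularPart_eq_sum hM hB hχ
  rw [← h3]
  conv_lhs => rw [← h2 ψ]
  rw [Characters.Core.classInner_conj_symm]

/-- **Brauer-Feit, weighted form.** `4 * ∑_{ψ ∈ B} p ^ (2 * ht ψ) ≤ p ^ (2 * d) + 4`. -/
theorem brauer_feit [Fact p.Prime] (hM : IsPModular p M) {B : Set (IrrCharacter G)}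
    (hB : IsPBlock M B) :
    4 * ∑ᶠ ψ ∈ B, p ^ (2 * blockHeight p B (ψ : G → ℂ)) ≤ p ^ (2 * blockDefect p B) + 4 := by
  classical
  have hp : p.Prime := Fact.out
  have hP : M.IsPrime := hM.2.1.isPrime
  have hfin : Finite (IrrCharacter G) := S0909.finite_irr
  have := Fintype.ofFinite (IrrCharacter G)
  obtain ⟨χ, hχ, h0⟩ := exists_height_zero (p := p) hB
  have hex : ∀ ψ : IrrCharacter G, ∃ n : ℤ, ψ ∈ B → (((p ^ blockDefect p B : ℕ) : ℂ) *
      classInner (pRegularPart p (χ : G → ℂ)) (ψ : G → ℂ) = n ∧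
      (p : ℤ) ^ (2 * blockHeight p B (ψ : G → ℂ)) ≤ n ^ 2) := by
    intro ψ
    by_cases hψ : ψ ∈ B
    · obtain ⟨n, hn, ⟨m, rfl⟩, h3⟩ := exists_int_height hM hB hχ h0 hψ
      refine ⟨_, fun _ => ⟨hn, ?_⟩⟩
      have hm : m ≠ 0 := by
        rintro rfl
        exact h3 (by simp)
      have hm2 : 1 ≤ m ^ 2 := by
        have := sq_pos_of_ne_zero hm
        omega
      have hpos : (0 : ℤ) ≤ (p : ℤ) ^ (2 * blockHeight p B (ψ : G → ℂ)) := by positivity
      calc (p : ℤ) ^ (2 * blockHeight p B (ψ : G → ℂ))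
          = (p : ℤ) ^ (2 * blockHeight p B (ψ : G → ℂ)) * 1 := (mul_one _).symm
        _ ≤ (p : ℤ) ^ (2 * blockHeight p B (ψ : G → ℂ)) * m ^ 2 :=
            mul_le_mul_of_nonneg_left hm2 hpos
        _ = ((p : ℤ) ^ blockHeight p B (ψ : G → ℂ) * m) ^ 2 := by ring
    · exact ⟨0, fun h => absurd h hψ⟩
  choose n hn using hex
  have hsum : ∑ ψ : IrrCharacter G with ψ ∈ B, n ψ ^ 2 = (p : ℤ) ^ blockDefect p B * n χ := by
    have h1 := sum_sq hM hB hχ
    have h2 : ((∑ ψ : IrrCharacter G with ψ ∈ B, n ψ ^ 2 : ℤ) : ℂ) =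
        (((p : ℤ) ^ blockDefect p B * n χ : ℤ) : ℂ) := by
      push_cast
      rw [← (hn χ hχ).1, ← h1]
      push_cast
      rw [← mul_assoc, ← sq, Finset.mul_sum]
      refine Finset.sum_congr rfl fun ψ hψ => ?_
      have hψB : ψ ∈ B := by simpa using hψ
      rw [← (hn ψ hψB).1]
      push_cast
      ring
    exact_mod_cast h2
  rw [finsum_mem_filter]
  have hmem : χ ∈ (Finset.univ.filter (· ∈ B) : Finset (IrrCharacter G)) := by simpa using hχ
  have h3 : ∑ ψ ∈ (Finset.univ.filter (· ∈ B) : Finset (IrrCharacter G)).erase χ,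
      (p : ℤ) ^ (2 * blockHeight p B (ψ : G → ℂ)) ≤
      ∑ ψ ∈ (Finset.univ.filter (· ∈ B) : Finset (IrrCharacter G)).erase χ, n ψ ^ 2 := by
    refine Finset.sum_le_sum fun ψ hψ => ?_
    have hψB : ψ ∈ B := by simpa using Finset.mem_of_mem_erase hψ
    exact (hn ψ hψB).2
  have h4 := Finset.add_sum_erase _ (fun ψ => n ψ ^ 2) hmem
  have h5 := Finset.add_sum_erase _ (fun ψ : IrrCharacter G =>
    (p : ℤ) ^ (2 * blockHeight p B (ψ : G → ℂ))) hmem
  rw [hsum] at h4
  have h6 : 4 * ∑ ψ : IrrCharacter G with ψ ∈ B, (p : ℤ) ^ (2 * blockHeight p B (ψ : G → ℂ)) ≤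
      (p : ℤ) ^ (2 * blockDefect p B) + 4 := by
    rw [← h5, h0, mul_zero, pow_zero]
    have h7 : (p : ℤ) ^ (2 * blockDefect p B) = ((p : ℤ) ^ blockDefect p B) ^ 2 := by
      rw [mul_comm, pow_mul]
    rw [h7]
    nlinarith [sq_nonneg ((p : ℤ) ^ blockDefect p B - 2 * n χ)]
  exact_mod_cast h6

end Cfsg.Agent.H648.HeightForm
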