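import Mathlib
import Cfsg.Agent.H648.FirstMain
set_option linter.all false

/-!
# The Harris-Knorr correspondence

`N` normal in `G`, `Q ≤ N` a `p`-subgroup, `H = N_G(Q)`, `L = H ∩ N`, `d` a block of `N` with defect
group `Q` and `e` its Brauer correspondent in `L`.  Induction is a bijection from the blocks of `H`
covering `e` onto the blocks of `G` covering `d`.
-/

set_option autoImplicit false
set_option linter.unusedSectionVars false

open Cfsg

namespace Cfsg.Agent.H648.HarrisKnorr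

open Cfsg.Agent.H644 Cfsg.Agent.Blocks.Local Cfsg.Agent.Blocks.MinMax
open Cfsg.Agent.Blocks.ConvCentral Cfsg.Agent.H648.Dict Cfsg.Agent.H648.FirstMain
open Cfsg.Agent.Blocks.Basic (isPBlock_nonempty isPBlock_mem_iff isPBlock_eq_of_mem
  isPBlock_eq_blockOf isPBlock_sameBlock isPBlock_mem_of_sameBlock isPBlock_blockOf
  mem_blockOf_self isPGroup_of_isDefectGroup)

section General

variable {p : ℕ} [Fact p.Prime] {M : Ideal AlgInt} [M.IsPrime] {G : Type*} [Group G] [Finite G]
  (N : Subgroup G) [hN : N.Normal]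

theorem idem_mul_emb_orb (hM : IsPModular p M) [Fintype N]
    {B : Set (IrrCharacter G)} (hB : IsPBlock M B) {c : Set (IrrCharacter N)}
    (hc : IsPBlock M c) (hcov : Covers N B c) :
    idem M B * emb N (idem M (orb N c)) = idem M B := by
  have hUB := isUnion_of_isPBlock hB
  rw [covers_iff_lam N hM hB hc] at hcov
  obtain ⟨χ, hχ⟩ := isPBlock_nonempty hB
  obtain ⟨θ, hθ⟩ := isPBlock_nonempty hc
  have hθorb : θ ∈ orb N c := ⟨1, by rw [conjN_one]; exact hθ⟩
  have hUo := isUnion_orb N hc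
  have h1 : lam M (χ : G → ℂ) (emb N (idem M (orb N c))) = 1 := by
    rw [hcov χ hχ θ hθ _ (isCls_emb_idem_orb N c) fun g hg => emb_idem_supp N _ hg, res_emb,
      lam_idem_of_mem hM hUo hθorb]
  rw [isCls_comm (isCls_idem B)]
  refine mul_idem_of_lam_eq_one hM (isCls_emb_idem_orb N c) ?_ hUB fun χ' hχ' => ?_
  · rw [← map_mul, idem_mul_self hM hUo]
  · rw [lam_eq_of_mem hB hχ' hχ, h1]

/-- Two covered blocks are conjugate. -/
theorem exists_conjN_of_covers (hM : IsPModular p M) [Fintype N]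
    {B : Set (IrrCharacter G)} (hB : IsPBlock M B) {c c' : Set (IrrCharacter N)}
    (hc : IsPBlock M c) (hc' : IsPBlock M c') (hcov : Covers N B c) (hcov' : Covers N B c') :
    ∃ g : G, c' = conjN N g c := by
  by_contra hcon
  push Not at hcon
  rw [covers_iff_idem N hM hB hc'] at hcov'
  apply hcov'
  rw [← idem_mul_emb_orb N hM hB hc hcov, mul_assoc, ← map_mul,
    idem_mul_idem hM (isUnion_orb N hc) (isUnion_of_isPBlock hc')]
  have h1 : orb N c ∩ c' = ∅ := by
    rw [Set.eq_empty_iff_forall_notMem]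
    rintro ψ ⟨⟨g, hg⟩, hψ⟩
    exact hcon g (isPBlock_eq_of_mem hc' (isPBlock_conjN N g hc) hψ hg)
  rw [h1, idem_empty, map_zero, mul_zero]

/-- Covering only depends on the conjugacy class of the covered block. -/
theorem isDefectGroup_conjN {c : Set (IrrCharacter N)} {D : Subgroup N}
    (hD : IsDefectGroup p M c D) (g : G) :
    IsDefectGroup p M (conjN N g c)
      (D.map (cjE g N N (mem_conj_iff N g)).toMonoidHom) :=
  Cfsg.Agent.H649.isDefectGroup_blkMap (e := cjE g N N (mem_conj_iff N g)) hD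

theorem card_map_equiv {A B : Type*} [Group A] [Group B] (e : A ≃* B) (D : Subgroup A) :
    Nat.card (D.map e.toMonoidHom : Subgroup B) = Nat.card D :=
  Nat.card_congr (D.equivMapOfInjective _ e.injective).symm.toEquiv

/-- Defect groups of conjugate blocks have the same order. -/
theorem card_defect_of_covers (hM : IsPModular p M) [Fintype N]
    {B : Set (IrrCharacter G)} (hB : IsPBlock M B) {c c' : Set (IrrCharacter N)}
    (hc : IsPBlock M c) (hc' : IsPBlock M c') (hcov : Covers N B c) (hcov' : Covers N B c')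
    {D D' : Subgroup N} (hD : IsDefectGroup p M c D) (hD' : IsDefectGroup p M c' D') :
    Nat.card D = Nat.card D' := by
  obtain ⟨g, rfl⟩ := exists_conjN_of_covers N hM hB hc hc' hcov hcov'
  rw [← card_eq_of_isDefectGroup hM hc' (isDefectGroup_conjN N hD g) hD', card_map_equiv]

/-- Two defect groups of a block are conjugate. -/
theorem exists_conj_of_isDefectGroup (hM : IsPModular p M) {B : Set (IrrCharacter G)}
    (hB : IsPBlock M B) {D D' : Subgroup G} (hD : IsDefectGroup p M B D)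
    (hD' : IsDefectGroup p M B D') : ∃ x : G, D.map (MulAut.conj x).toMonoidHom = D' := by
  obtain ⟨x, hx⟩ := (br_idem_ne_zero_iff hM hB hD' (isPGroup_of_isDefectGroup hD)).1
    (br_idem_ne_zero hM hB hD)
  refine ⟨x, Subgroup.eq_of_le_of_card_ge hx ?_⟩
  rw [← card_eq_of_isDefectGroup hM hB hD hD']
  exact (Nat.card_congr (D.equivMapOfInjective _ (MulAut.conj x).injective).toEquiv).le

theorem exists_stable_br_ne_zero (hM : IsPModular p M) {B : Set (IrrCharacter G)}
    (hB : IsPBlock M B) {P : Subgroup G} (hPp : IsPGroup p P) (hBne : br P (idem M B) ≠ 0) :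
    ∃ c : Set (IrrCharacter N), IsPBlock M c ∧
      IsInv P (emb N (idem M c)) ∧ br P (idem M B * emb N (idem M c)) ≠ 0 := by
  classical
  have := charP_resField hM
  obtain ⟨ξ, hξ⟩ := exists_lam_eq_one (M := M) (isCls_br_of_isCls (P := P)
    (isCls_idem (M := M) B)) (by
      rw [← br_mul hPp (isInv_of_isCls (isCls_idem B) P) (isInv_of_isCls (isCls_idem B) P),
        idem_mul_self hM (isUnion_of_isPBlock hB)]) hBne
  have hPL : P ≤ Subgroup.normalizer (N : Set G) := by
    rw [Subgroup.normalizer_eq_top]; exact le_top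
  have := Fintype.ofFinite (Blk M N)
  let act0 := blkAction M N
  let act : MulAction P (Blk M N) := MulAction.compHom _ (Subgroup.inclusion hPL)
  have hsmul : ∀ (u : P) (B : Blk M N),
      emb N (idem M (u • B).1) = cj (u : G) (emb N (idem M B.1)) := by
    intro u B
    exact emb_idem_irrMap (u : G) N N (mem_iff_conj_mem_of_mem_normalizer (hPL u.2)) B.1
  set F : Blk M N → ResField M := fun c =>
    lam M (ξ : Subgroup.centralizer (P : Set G) → ℂ) (br P (idem M B * emb N (idem M c.1)))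
    with hF
  have hFinv : ∀ (u : P) (c : Blk M N), F (u • c) = F c := by
    intro u c
    simp only [hF]
    rw [hsmul, ← cj_of_isCls (isCls_idem (M := M) B) (u : G), ← map_mul, br_cj u.2,
      cj_of_isCls (isCls_idem (M := M) B) (u : G)]
  have hsum : ∑ c, F c = 1 := by
    simp only [hF]
    rw [← map_sum, ← map_sum, ← Finset.mul_sum, ← map_sum, sum_idem_eq_one hM, map_one,
      mul_one, hξ]
  obtain ⟨a, ha⟩ := Cfsg.Agent.Blocks.OrbitSum.sum_eq_sum_fixed_add_smul hPp F hFinv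
  rw [hsum, nsmul_eq_mul, CharP.cast_eq_zero, zero_mul, add_zero] at ha
  obtain ⟨c, hc, hFc⟩ := Finset.exists_ne_zero_of_sum_ne_zero (ha ▸ one_ne_zero)
  have hfix : ∀ u : P, u • c = c := (Finset.mem_filter.1 hc).2
  refine ⟨c.1, c.2, ?_, fun h => hFc ?_⟩
  · rw [isInv_iff_cj]
    intro u hu
    rw [← hsmul ⟨u, hu⟩ c, hfix ⟨u, hu⟩]
  · simp only [hF]
    rw [h, map_zero]

theorem br_cj_eq_zero {P : Subgroup G} {x : MonoidAlgebra (ResField M) G} (g : G)
    (h : br (P.map (MulAut.conj g).toMonoidHom) (cj g x) = 0) : br P x = 0 := by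
  refine ext_coeff fun y => ?_
  have h1 := (mem_centralizer_map_conj P g y).1 y.2
  have h2 := congrArg (fun z => z.coeff ⟨_, h1⟩) h
  rw [coeff_br]
  have h3 : (cj g x).coeff (g * y * g⁻¹) = 0 := h2.trans rfl
  rw [coeff_cj] at h3
  have h4 : g⁻¹ * (g * (y : G) * g⁻¹) * g = y := by group
  rw [h4] at h3
  rw [h3]
  rfl

theorem isInv_cj {P : Subgroup G} {x : MonoidAlgebra (ResField M) G} (g : G) (h : IsInv P x) :
    IsInv (P.map (MulAut.conj g).toMonoidHom) (cj g x) := by
  rw [isInv_iff_cj] at h ⊢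
  rintro _ ⟨u, hu, rfl⟩
  change cj (g * u * g⁻¹) (cj g x) = cj g x
  rw [cj_mul_apply, cj_inv_cj, cj_mul_apply, h u hu]

/-- A refinement of Knorr's theorem: for a given covered block `d` with defect group `Q`, some
defect group `P` of `B` satisfies `P ∩ N = Q`, `d` is `P`-stable and the Brauer map at `P` does not
kill the product of the idempotents. -/
theorem exists_defect_over (hM : IsPModular p M) [Fintype N]
    {B : Set (IrrCharacter G)} (hB : IsPBlock M B) {d : Set (IrrCharacter N)}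
    (hd : IsPBlock M d) (hcov : Covers N B d) {Q : Subgroup G} (hQN : Q ≤ N)
    (hQ : IsDefectGroup p M d (Q.subgroupOf N)) :
    ∃ P : Subgroup G, IsDefectGroup p M B P ∧ P ⊓ N = Q ∧ IsInv P (emb N (idem M d)) ∧
      br P (idem M B * emb N (idem M d)) ≠ 0 := by
  classical
  have := charP_resField hM
  obtain ⟨P₀, hP₀⟩ := exists_isDefectGroup hM hB
  obtain ⟨c, hc, hinv, hne⟩ := exists_stable_br_ne_zero N hM hB
    (isPGroup_of_isDefectGroup hP₀) (br_idem_ne_zero hM hB hP₀)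
  have hcovc : Covers N B c := (covers_iff_idem N hM hB hc).2 fun h => hne (by rw [h, map_zero])
  obtain ⟨g, rfl⟩ := exists_conjN_of_covers N hM hB hc hd hcovc hcov
  set P₁ : Subgroup G := P₀.map (MulAut.conj g).toMonoidHom with hP₁def
  have hP₁ : IsDefectGroup p M B P₁ := Cfsg.Agent.Blocks.Basic.isDefectGroup_conj hP₀ g
  have hP₁p := isPGroup_of_isDefectGroup hP₁
  have hinv₁ : IsInv P₁ (emb N (idem M (conjN N g c))) := by
    rw [emb_idem_conjN]; exact isInv_cj g hinv
  have hne₁ : br P₁ (idem M B * emb N (idem M (conjN N g c))) ≠ 0 := by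
    rw [emb_idem_conjN, ← cj_of_isCls (isCls_idem (M := M) B) g, ← map_mul]
    exact fun h => hne (br_cj_eq_zero g h)
  -- `P₁ ∩ N` is a defect group
  have h1 : br P₁ (emb N (idem M (conjN N g c))) ≠ 0 := by
    intro h
    apply hne₁
    rw [br_mul hP₁p (isInv_of_isCls (isCls_idem B) P₁) hinv₁, h, mul_zero]
  have h2 : br ((P₁ ⊓ N).subgroupOf N) (idem M (conjN N g c)) ≠ 0 := fun h =>
    h1 (br_emb_eq_zero N h)
  have hPN : IsPGroup p ((P₁ ⊓ N).subgroupOf N) :=
    (isPGroup_of_le hP₁p inf_le_left).comap_subtype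
  have hQp : IsPGroup p Q := by
    have h3 := (isPGroup_of_isDefectGroup hQ).map N.subtype
    rwa [Subgroup.subgroupOf_map_subtype, inf_eq_left.2 hQN] at h3
  have hcardQ : Nat.card (Q.subgroupOf N) = Nat.card Q :=
    Nat.card_congr (Subgroup.subgroupOfEquivOfLe hQN).toEquiv
  have hcardP : Nat.card ((P₁ ⊓ N).subgroupOf N) = Nat.card (P₁ ⊓ N : Subgroup G) :=
    Nat.card_congr (Subgroup.subgroupOfEquivOfLe inf_le_right).toEquiv
  have hle : Nat.card (Q.subgroupOf N) ≤ Nat.card ((P₁ ⊓ N).subgroupOf N) := by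
    have h3 := br_ne_zero_of_covers N hM hB hd ((covers_iff_idem N hM hB hd).1 hcov) hQp hQN
      (br_idem_ne_zero hM hd hQ)
    obtain ⟨x, hx⟩ := (br_idem_ne_zero_iff hM hB hP₁ hQp).1 h3
    have h4 : Q.map (MulAut.conj x).toMonoidHom ≤ P₁ ⊓ N := by
      refine le_inf hx ?_
      rintro _ ⟨q, hq, rfl⟩
      exact hN.conj_mem q (hQN hq) x
    have h5 : Nat.card (Q.map (MulAut.conj x).toMonoidHom : Subgroup G) = Nat.card Q :=
      Nat.card_congr (Q.equivMapOfInjective _ (MulAut.conj x).injective).symm.toEquiv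
    rw [hcardP, hcardQ, ← h5]
    exact Subgroup.card_le_of_le h4
  have hdef := isDefectGroup_of_card hM hd hQ hPN h2 hle
  obtain ⟨n, hn⟩ := exists_conj_of_isDefectGroup hM hd hdef hQ
  -- conjugate by `n`
  refine ⟨P₁.map (MulAut.conj (n : G)).toMonoidHom,
    Cfsg.Agent.Blocks.Basic.isDefectGroup_conj hP₁ n, ?_, ?_, ?_⟩
  · have h3 : (((P₁ ⊓ N).subgroupOf N).map (MulAut.conj n).toMonoidHom).map N.subtype =
        (Q.subgroupOf N).map N.subtype := by rw [hn]
    rw [Subgroup.subgroupOf_map_subtype, inf_eq_left.2 hQN] at h3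
    rw [← h3]
    ext y
    constructor
    · rintro ⟨⟨u, hu, rfl⟩, hy⟩
      have huN : u ∈ N := (mem_conj_iff N (n : G) u).2 hy
      exact ⟨n * ⟨u, huN⟩ * n⁻¹, ⟨⟨u, huN⟩, by
        rw [SetLike.mem_coe, Subgroup.mem_subgroupOf]; exact ⟨hu, huN⟩, rfl⟩, rfl⟩
    · rintro ⟨_, ⟨u, hu, rfl⟩, rfl⟩
      rw [SetLike.mem_coe, Subgroup.mem_subgroupOf] at hu
      exact ⟨⟨u, hu.1, rfl⟩, (n * u * n⁻¹ : N).2⟩
  · have h3 := isInv_cj (n : G) hinv₁
    rwa [isInv_iff_cj.1 (isInv_emb (isCls_idem (M := M) (conjN N g c))) n n.2] at h3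
  · intro h
    apply hne₁
    refine br_cj_eq_zero (n : G) ?_
    rw [map_mul, cj_of_isCls (isCls_idem (M := M) B),
      isInv_iff_cj.1 (isInv_emb (isCls_idem (M := M) (conjN N g c))) n n.2]
    exact h

end General

section Inter

variable {p : ℕ} [Fact p.Prime] {M : Ideal AlgInt} [M.IsPrime] {G : Type*} [Group G] [Finite G]
  (N : Subgroup G) [hN : N.Normal] (H : Subgroup G)

theorem mem_sub_iff (h : H) : h ∈ (H ⊓ N).subgroupOf H ↔ (h : G) ∈ N := by
  rw [Subgroup.mem_subgroupOf]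
  exact ⟨fun h => h.2, fun h' => ⟨h.2, h'⟩⟩

instance normal_sub : ((H ⊓ N).subgroupOf H).Normal := by
  constructor
  intro n hn g
  rw [mem_sub_iff] at hn ⊢
  exact hN.conj_mem _ hn g

/-- `H ∩ N` as a subgroup of `H` and of `G`. -/
def eps : (H ⊓ N).subgroupOf H ≃* (H ⊓ N : Subgroup G) := Subgroup.subgroupOfEquivOfLe inf_le_left

theorem coe_eps_symm (l : (H ⊓ N : Subgroup G)) : (((eps N H).symm l : H) : G) = l := rfl

theorem lam_eps (ξ : IrrCharacter (H ⊓ N : Subgroup G)) {y : MonoidAlgebra (ResField M) H}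
    (hy : IsCls y) : lam M (irrMap (eps N H).symm ξ : _ → ℂ) (res ((H ⊓ N).subgroupOf H) y) =
      lam M (ξ : (H ⊓ N : Subgroup G) → ℂ) (res (H ⊓ N) (emb H y)) := by
  refine lam_irrMap (eps N H).symm ξ
    (isCls_res (isInv_mono inf_le_left (isInv_emb hy))) fun l => ?_
  rw [coeff_res, coeff_res, coeff_emb_of_mem _ l.2.1]
  rfl

theorem coversIn_iff [Fintype (H ⊓ N : Subgroup G)] [Fintype ((H ⊓ N).subgroupOf H)]
    {c : Set (IrrCharacter H)} {e : Set (IrrCharacter (H ⊓ N : Subgroup G))} :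
    (∃ ψ ∈ c, ∃ ξ ∈ e, classInner (fun l : (H ⊓ N : Subgroup G) =>
      (ψ : H → ℂ) (Subgroup.inclusion inf_le_left l)) (ξ : (H ⊓ N : Subgroup G) → ℂ) ≠ 0) ↔
      Covers ((H ⊓ N).subgroupOf H) c (Cfsg.Agent.H649.blkMap (eps N H).symm e) := by
  have key : ∀ (ψ : IrrCharacter H) (ξ : IrrCharacter (H ⊓ N : Subgroup G)),
      classInner (fun l : (H ⊓ N).subgroupOf H => (ψ : H → ℂ) l)
        (Cfsg.Agent.H649.irrMap (eps N H).symm ξ : (H ⊓ N).subgroupOf H → ℂ) =
      classInner (fun l : (H ⊓ N : Subgroup G) =>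
      (ψ : H → ℂ) (Subgroup.inclusion inf_le_left l)) (ξ : (H ⊓ N : Subgroup G) → ℂ) := by
    intro ψ ξ
    rw [Cfsg.Agent.Blocks.Basic.classInner_def, Cfsg.Agent.Blocks.Basic.classInner_def,
      Nat.card_congr (eps N H).toEquiv, ← Equiv.sum_comp (eps N H).symm.toEquiv]
    rfl
  constructor
  · rintro ⟨ψ, hψ, ξ, hξ, h⟩
    exact ⟨ψ, hψ, _, ⟨ξ, hξ, rfl⟩, by rw [key]; exact h⟩
  · rintro ⟨ψ, hψ, _, ⟨ξ, hξ, rfl⟩, h⟩
    exact ⟨ψ, hψ, ξ, hξ, by rw [← key]; exact h⟩

/-- **Part one**: if `e` induces `d` in `N`, `c` covers `e` and induces `B`, then `B` covers `d`. -/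
theorem covers_of_induced (hM : IsPModular p M) [Fintype N] [Fintype ((H ⊓ N).subgroupOf H)]
    {d : Set (IrrCharacter N)} {e : Set (IrrCharacter (H ⊓ N : Subgroup G))}
    (hed : IsInducedBlockIn M N (H ⊓ N) e d) {c : Set (IrrCharacter H)}
    {B : Set (IrrCharacter G)}
    (hcov : Covers ((H ⊓ N).subgroupOf H) c (Cfsg.Agent.H649.blkMap (eps N H).symm e))
    (hind : IsInducedBlock M H c B) : Covers N B d := by
  have hind' := isInducedBlock_iff.1 hind
  have hed' := (isInducedBlockIn_iff inf_le_right).1 hed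
  rw [covers_iff_lam N hM hind'.2.1 hed'.2.1]
  intro χ hχ θ hθ x hx hsupp
  obtain ⟨ψ, hψ⟩ := isPBlock_nonempty hind'.1
  obtain ⟨ξ, hξ⟩ := isPBlock_nonempty hed'.1
  have hx' : IsCls (res H x) := isCls_res (isInv_of_isCls hx H)
  have h1 := (covers_iff_lam ((H ⊓ N).subgroupOf H) hM hind'.1
    (Cfsg.Agent.H649.isPBlock_blkMap hed'.1)).1 hcov ψ hψ
      (Cfsg.Agent.H649.irrMap (eps N H).symm ξ) ⟨ξ, hξ, rfl⟩ (res H x) hx' (by
      intro h hh
      rw [coeff_res]
      exact hsupp _ fun h' => hh ((mem_sub_iff N H h).2 h'))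
  rw [← hind'.2.2 ψ hψ χ hχ x hx, h1]
  have h2 := lam_eps N H ξ hx'
  rw [res_emb_res inf_le_left] at h2
  refine Eq.trans h2 ?_
  rw [← hed'.2.2 ξ hξ θ hθ (res N x) (isCls_res (isInv_of_isCls hx N)),
    res_emb_res inf_le_right]

theorem emb_idem_eps (e : Set (IrrCharacter (H ⊓ N : Subgroup G))) :
    emb H (emb ((H ⊓ N).subgroupOf H) (idem M (Cfsg.Agent.H649.blkMap (eps N H).symm e))) =
      emb (H ⊓ N) (idem M e) := by
  refine ext_coeff fun g => ?_
  by_cases hg : g ∈ H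
  · rw [coeff_emb_of_mem _ hg]
    by_cases hgN : g ∈ N
    · have h1 : (⟨g, hg⟩ : H) ∈ (H ⊓ N).subgroupOf H := (mem_sub_iff N H _).2 hgN
      rw [coeff_emb_of_mem _ h1, coeff_emb_of_mem _ (show g ∈ H ⊓ N from ⟨hg, hgN⟩)]
      exact coeff_idem_irrMap (M := M) (eps N H).symm e ⟨g, hg, hgN⟩
    · have h1 : (⟨g, hg⟩ : H) ∉ (H ⊓ N).subgroupOf H := fun h => hgN ((mem_sub_iff N H _).1 h)
      rw [coeff_emb_of_notMem _ h1, coeff_emb_of_notMem _ (show g ∉ H ⊓ N from fun h => hgN h.2)]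
  · rw [coeff_emb_of_notMem _ hg, coeff_emb_of_notMem _ (show g ∉ H ⊓ N from fun h => hg h.1)]

end Inter

section HK

variable {p : ℕ} [Fact p.Prime] {M : Ideal AlgInt} [M.IsPrime] {G : Type*} [Group G] [Finite G]
  (N : Subgroup G) [hN : N.Normal] {Q : Subgroup G}

/-- `N_N(Q)` inside `N` and inside `G`. -/
def del (hQN : Q ≤ N) : Subgroup.normalizer ((Q.subgroupOf N : Subgroup N) : Set N) ≃*
    (Subgroup.normalizer (Q : Set G) ⊓ N : Subgroup G) where
  toFun n := ⟨((n : N) : G), (mem_normalizer_subgroupOf_iff hQN _).1 n.2, (n : N).2⟩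
  invFun n := ⟨⟨n, n.2.2⟩, (mem_normalizer_subgroupOf_iff hQN _).2 n.2.1⟩
  left_inv _ := rfl
  right_inv _ := rfl
  map_mul' _ _ := rfl

theorem map_del_symm (hQN : Q ≤ N) :
    (Q.subgroupOf (Subgroup.normalizer (Q : Set G) ⊓ N)).map (del N hQN).symm.toMonoidHom =
      (Q.subgroupOf N).subgroupOf
        (Subgroup.normalizer ((Q.subgroupOf N : Subgroup N) : Set N)) := by
  ext n
  rw [Subgroup.mem_subgroupOf]
  constructor
  · rintro ⟨m, hm, rfl⟩
    exact hm
  · intro hn
    exact ⟨del N hQN n, hn, (del N hQN).symm_apply_apply n⟩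

/-- The idempotent of the Brauer correspondent `e` of `d` is the truncation of the one of `d`. -/
theorem emb_idem_correspondent (hM : IsPModular p M) (hQN : Q ≤ N)
    {d : Set (IrrCharacter N)} (hd : IsPBlock M d)
    (hdQ : IsDefectGroup p M d (Q.subgroupOf N))
    {e : Set (IrrCharacter (Subgroup.normalizer (Q : Set G) ⊓ N : Subgroup G))}
    (heQ : IsDefectGroup p M e (Q.subgroupOf (Subgroup.normalizer (Q : Set G) ⊓ N)))
    (hed : IsInducedBlockIn M N (Subgroup.normalizer (Q : Set G) ⊓ N) e d) :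
    emb _ (idem M e) = emb _ (br Q (emb N (idem M d))) := by
  have hed' := (isInducedBlockIn_iff inf_le_right).1 hed
  set b₁ := Cfsg.Agent.H649.blkMap (del N hQN).symm e with hb₁
  have hb₁b : IsPBlock M b₁ := Cfsg.Agent.H649.isPBlock_blkMap hed'.1
  have hd₁ : IsDefectGroup p M b₁ ((Q.subgroupOf N).subgroupOf
      (Subgroup.normalizer ((Q.subgroupOf N : Subgroup N) : Set N))) := by
    rw [← map_del_symm N hQN]
    exact Cfsg.Agent.H649.isDefectGroup_blkMap heQ
  have hind₁ : IsInducedBlock M (Subgroup.normalizer ((Q.subgroupOf N : Subgroup N) : Set N))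
      b₁ d := by
    obtain ⟨ξ, hξ⟩ := isPBlock_nonempty hed'.1
    obtain ⟨θ, hθ⟩ := isPBlock_nonempty hd
    refine isInducedBlock_of_mem (ξ := irrMap (del N hQN).symm ξ) hb₁b hd ⟨ξ, hξ, rfl⟩ hθ
      fun x hx => ?_
    rw [← hed'.2.2 ξ hξ θ hθ x hx]
    refine lam_irrMap (del N hQN).symm ξ
      (isCls_res (isInv_mono inf_le_right (isInv_emb hx))) fun l => ?_
    rw [coeff_res, coeff_res, coeff_emb_of_mem _ l.2.2]
    rfl
  obtain ⟨b₀, hb₀⟩ := exists_cor_of_block hM hd hdQ
  have hQ'p := isPGroup_of_isDefectGroup hdQ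
  obtain ⟨b, -, huniq⟩ := (Cfsg.Agent.S0920.result p M hM (Q.subgroupOf N) hQ'p).2 d hd hdQ
  have hbb : b₁ = b₀ := by
    rw [huniq b₁ ⟨hb₁b, hd₁, hind₁⟩, huniq b₀ ⟨hb₀.isPBlock_b, hb₀.defect_b, hb₀.ind⟩]
  have heq := hb₀.eq_tr
  rw [← hbb] at heq
  have hCmem : ∀ (g : G) (hgN : g ∈ N), (⟨g, hgN⟩ : N) ∈
      Subgroup.centralizer ((Q.subgroupOf N : Subgroup N) : Set N) ↔
        g ∈ Subgroup.centralizer (Q : Set G) := by
    intro g hgN
    rw [Subgroup.mem_centralizer_iff, Subgroup.mem_centralizer_iff]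
    constructor
    · intro h q hq
      exact congrArg Subtype.val (h ⟨q, hQN hq⟩ (by
        rw [SetLike.mem_coe, Subgroup.mem_subgroupOf]; exact hq))
    · intro h q hq
      rw [SetLike.mem_coe, Subgroup.mem_subgroupOf] at hq
      exact Subtype.ext (h _ hq)
  refine ext_coeff fun g => ?_
  by_cases hgL : g ∈ Subgroup.normalizer (Q : Set G) ⊓ N
  · rw [coeff_emb_of_mem _ hgL]
    have h1 := coeff_idem_irrMap (M := M) (del N hQN).symm e ⟨g, hgL⟩
    have h2 := congrArg (fun z => z.coeff ((del N hQN).symm ⟨g, hgL⟩)) heq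
    have h3 : (idem M e).coeff ⟨g, hgL⟩ =
        (tr (Q.subgroupOf N) (idem M d)).coeff ((del N hQN).symm ⟨g, hgL⟩) := h1.symm.trans h2
    rw [h3]
    by_cases hgC : g ∈ Subgroup.centralizer (Q : Set G)
    · rw [coeff_tr_of_mem _ (by exact (hCmem g hgL.2).2 hgC), coeff_emb_of_mem _ hgC, coeff_br,
        coeff_emb_of_mem _ hgL.2]
      rfl
    · rw [coeff_tr_of_notMem _ (by exact fun h => hgC ((hCmem g hgL.2).1 h)),
        coeff_emb_of_notMem _ hgC]
  · rw [coeff_emb_of_notMem _ hgL]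
    by_cases hgC : g ∈ Subgroup.centralizer (Q : Set G)
    · have hgN : g ∉ N := fun h => hgL ⟨centralizer_le_normalizer Q hgC, h⟩
      rw [coeff_emb_of_mem _ hgC, coeff_br, coeff_emb_of_notMem _ hgN]
    · rw [coeff_emb_of_notMem _ hgC]

theorem normalizer_le_of_inf_eq {P : Subgroup G} (h : P ⊓ N = Q) :
    Subgroup.normalizer (P : Set G) ≤ Subgroup.normalizer (Q : Set G) := by
  intro g hg
  rw [Subgroup.mem_normalizer_iff] at hg ⊢
  intro x
  rw [← h]
  constructor
  · rintro ⟨h1, h2⟩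
    exact ⟨(hg x).1 h1, hN.conj_mem x h2 g⟩
  · rintro ⟨h1, h2⟩
    exact ⟨(hg x).2 h1, (mem_conj_iff N g x).2 h2⟩

/-- **Part two**, existence. -/
theorem exists_cover_of_covers (hM : IsPModular p M) (hQN : Q ≤ N) [Fintype N]
    [Fintype ((Subgroup.normalizer (Q : Set G) ⊓ N).subgroupOf
      (Subgroup.normalizer (Q : Set G)))]
    {d : Set (IrrCharacter N)} (hd : IsPBlock M d)
    (hdQ : IsDefectGroup p M d (Q.subgroupOf N))
    {e : Set (IrrCharacter (Subgroup.normalizer (Q : Set G) ⊓ N : Subgroup G))}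
    (he : IsPBlock M e)
    (heQ : IsDefectGroup p M e (Q.subgroupOf (Subgroup.normalizer (Q : Set G) ⊓ N)))
    (hed : IsInducedBlockIn M N (Subgroup.normalizer (Q : Set G) ⊓ N) e d)
    {B : Set (IrrCharacter G)} (hB : IsPBlock M B) (hcov : Covers N B d) :
    ∃ c : Set (IrrCharacter (Subgroup.normalizer (Q : Set G))), IsPBlock M c ∧
      Covers ((Subgroup.normalizer (Q : Set G) ⊓ N).subgroupOf (Subgroup.normalizer (Q : Set G))) c
        (Cfsg.Agent.H649.blkMap (eps N (Subgroup.normalizer (Q : Set G))).symm e) ∧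
      IsInducedBlock M (Subgroup.normalizer (Q : Set G)) c B := by
  have := charP_resField hM
  obtain ⟨P, hP, hPN, hinv, hne⟩ := exists_defect_over N hM hB hd hcov hQN hdQ
  have hPp := isPGroup_of_isDefectGroup hP
  have hH : Subgroup.normalizer (P : Set G) ≤ Subgroup.normalizer (Q : Set G) :=
    normalizer_le_of_inf_eq N hPN
  have hPH : P ≤ Subgroup.normalizer (Q : Set G) := Subgroup.le_normalizer.trans hH
  have hQP : Q ≤ P := by rw [← hPN]; exact inf_le_left
  obtain ⟨c, hc⟩ := exists_over_of_block hM hH hB hP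
  refine ⟨c, hc.isPBlock_c, ?_, hc.ind⟩
  rw [covers_iff_idem _ hM hc.isPBlock_c (Cfsg.Agent.H649.isPBlock_blkMap he)]
  intro h0
  apply hne
  have h1 := congrArg (emb (Subgroup.normalizer (Q : Set G))) h0
  rw [map_mul, emb_idem_eps, map_zero, emb_idem_correspondent N hM hQN hd hdQ heQ hed] at h1
  have hinvc : IsInv P (emb _ (idem M c)) := isInv_mono hPH (isInv_emb (isCls_idem c))
  have hinvd : IsInv P (emb _ (br Q (emb N (idem M d)))) := by
    intro u hu g
    have hu' := hPH hu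
    by_cases hg : g ∈ Subgroup.centralizer (Q : Set G)
    · rw [coeff_emb_of_mem _ hg, coeff_emb_of_mem _ ((conj_mem_centralizer_iff hu' g).2 hg),
        coeff_br, coeff_br]
      exact hinv u hu g
    · rw [coeff_emb_of_notMem _ hg, coeff_emb_of_notMem _
        (fun h => hg ((conj_mem_centralizer_iff hu' g).1 h))]
  have h2 := congrArg (br P) h1
  rw [br_mul hPp hinvc hinvd, br_emb_br hQP, ← hc.br_eq, map_zero] at h2
  rw [br_mul hPp (isInv_of_isCls (isCls_idem B) P) hinv, h2]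

/-- The defect groups of a block of `H = N_G(Q)` covering `e`. -/
theorem exists_over_of_cover (hM : IsPModular p M) (hQN : Q ≤ N) {H : Subgroup G}
    (hHQ : H = Subgroup.normalizer (Q : Set G)) [Fintype ((H ⊓ N).subgroupOf H)]
    {e : Set (IrrCharacter (H ⊓ N : Subgroup G))}
    (he : IsPBlock M e) (heQ : IsDefectGroup p M e (Q.subgroupOf (H ⊓ N)))
    {c : Set (IrrCharacter H)} (hc : IsPBlock M c)
    (hcov : Covers ((H ⊓ N).subgroupOf H) c (Cfsg.Agent.H649.blkMap (eps N H).symm e))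
    {B : Set (IrrCharacter G)} (hind : IsInducedBlock M H c B) :
    ∃ D : Subgroup G, D ⊓ N = Q ∧ Over p M D H c B := by
  have hQH : Q ≤ H := by rw [hHQ]; exact Subgroup.le_normalizer
  have hle : Q.subgroupOf H ≤ (H ⊓ N).subgroupOf H := by
    intro h hh
    rw [Subgroup.mem_subgroupOf] at hh
    exact (mem_sub_iff N H h).2 (hQN hh)
  have hdef : IsDefectGroup p M (Cfsg.Agent.H649.blkMap (eps N H).symm e)
      ((Q.subgroupOf H).subgroupOf ((H ⊓ N).subgroupOf H)) := by
    have h1 := Cfsg.Agent.H649.isDefectGroup_blkMap (e := (eps N H).symm) heQ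
    have h2 : (Q.subgroupOf (H ⊓ N)).map (eps N H).symm.toMonoidHom =
        (Q.subgroupOf H).subgroupOf ((H ⊓ N).subgroupOf H) := by
      ext n
      rw [Subgroup.mem_subgroupOf]
      constructor
      · rintro ⟨m, hm, rfl⟩
        exact hm
      · intro hn
        exact ⟨eps N H n, hn, (eps N H).symm_apply_apply n⟩
    rwa [h2] at h1
  obtain ⟨P', hP', hP'N, -, -⟩ := exists_defect_over ((H ⊓ N).subgroupOf H) hM hc
    (Cfsg.Agent.H649.isPBlock_blkMap he) hcov hle hdef
  set D : Subgroup G := P'.map H.subtype with hD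
  have hDH : D ≤ H := Subgroup.map_subtype_le P'
  have hDsub : D.subgroupOf H = P' := by
    rw [hD]
    exact Subgroup.comap_map_eq_self_of_injective H.subtype_injective P'
  have hDN : D ⊓ N = Q := by
    ext x
    constructor
    · rintro ⟨⟨y, hy, rfl⟩, hx⟩
      have h1 : y ∈ P' ⊓ (H ⊓ N).subgroupOf H := ⟨hy, (mem_sub_iff N H y).2 hx⟩
      rw [hP'N, Subgroup.mem_subgroupOf] at h1
      exact h1
    · intro hx
      have h1 : (⟨x, hQH hx⟩ : H) ∈ P' ⊓ (H ⊓ N).subgroupOf H := by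
        rw [hP'N, Subgroup.mem_subgroupOf]; exact hx
      exact ⟨⟨_, h1.1, rfl⟩, hQN hx⟩
  have hDp : IsPGroup p D := (isPGroup_of_isDefectGroup hP').map _
  have hND : Subgroup.normalizer (D : Set G) ≤ H := by
    rw [hHQ]; exact normalizer_le_of_inf_eq N hDN
  obtain ⟨B', hB'⟩ := exists_block_of_over (P := D) hM hDp hND hc (by rw [hDsub]; exact hP')
  have hBB : B' = B := isInducedBlock_unique hB'.ind hind
  rw [hBB] at hB'
  exact ⟨D, hDN, hB'⟩

/-- **Part two**, uniqueness. -/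
theorem cover_unique (hM : IsPModular p M) (hQN : Q ≤ N) {H : Subgroup G}
    (hHQ : H = Subgroup.normalizer (Q : Set G)) [Fintype ((H ⊓ N).subgroupOf H)]
    {e : Set (IrrCharacter (H ⊓ N : Subgroup G))}
    (he : IsPBlock M e) (heQ : IsDefectGroup p M e (Q.subgroupOf (H ⊓ N)))
    {c c' : Set (IrrCharacter H)} (hc : IsPBlock M c) (hc' : IsPBlock M c')
    (hcov : Covers ((H ⊓ N).subgroupOf H) c (Cfsg.Agent.H649.blkMap (eps N H).symm e))
    (hcov' : Covers ((H ⊓ N).subgroupOf H) c' (Cfsg.Agent.H649.blkMap (eps N H).symm e))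
    {B : Set (IrrCharacter G)} (hind : IsInducedBlock M H c B)
    (hind' : IsInducedBlock M H c' B) : c = c' := by
  obtain ⟨D, hDN, hD⟩ := exists_over_of_cover N hM hQN hHQ he heQ hc hcov hind
  obtain ⟨D', hDN', hD'⟩ := exists_over_of_cover N hM hQN hHQ he heQ hc' hcov' hind'
  obtain ⟨x, hx⟩ := exists_conj_of_isDefectGroup hM hD.isPBlock_B hD.defect_B hD'.defect_B
  -- `x` normalizes `Q`
  have hxH : x ∈ H := by
    have h1 : Q.map (MulAut.conj x).toMonoidHom = Q := by
      conv_rhs => rw [← hDN', ← hx]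
      rw [← hDN]
      ext y
      constructor
      · rintro ⟨z, hz, rfl⟩
        exact ⟨⟨z, hz.1, rfl⟩, hN.conj_mem z hz.2 x⟩
      · rintro ⟨⟨z, hz, rfl⟩, hy⟩
        exact ⟨z, ⟨hz, (mem_conj_iff N x z).2 hy⟩, rfl⟩
    rw [hHQ, Subgroup.mem_normalizer_iff]
    intro q
    constructor
    · intro hq
      have : x * q * x⁻¹ ∈ Q.map (MulAut.conj x).toMonoidHom := ⟨q, hq, rfl⟩
      rwa [h1] at this
    · intro hq
      have h0 : x * q * x⁻¹ ∈ Q.map (MulAut.conj x).toMonoidHom := by rw [h1]; exact hq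
      obtain ⟨z, hz, hzq⟩ := h0
      have h2 : x * z * x⁻¹ = x * q * x⁻¹ := hzq
      have h3 : z = q := mul_left_cancel (mul_right_cancel h2)
      rwa [← h3]
  have hND' : Subgroup.normalizer (D' : Set G) ≤ H := by
    rw [hHQ]; exact normalizer_le_of_inf_eq N hDN'
  have hND : Subgroup.normalizer (D : Set G) ≤ H := by
    rw [hHQ]; exact normalizer_le_of_inf_eq N hDN
  have hD'H : D' ≤ H := Subgroup.le_normalizer.trans hND'
  -- `D'` is a defect group of `c`
  have hdef : IsDefectGroup p M c (D'.subgroupOf H) := by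
    have h1 := Cfsg.Agent.Blocks.Basic.isDefectGroup_conj hD.defect_c ⟨x, hxH⟩
    have h2 : (D.subgroupOf H).map (MulAut.conj (⟨x, hxH⟩ : H)).toMonoidHom =
        D'.subgroupOf H := by
      ext y
      rw [Subgroup.mem_subgroupOf, ← hx]
      constructor
      · rintro ⟨z, hz, rfl⟩
        exact ⟨z, hz, rfl⟩
      · rintro ⟨z, hz, hzy⟩
        have hzH : z ∈ H := (Subgroup.le_normalizer.trans hND) hz
        exact ⟨⟨z, hzH⟩, hz, Subtype.ext hzy⟩
    rwa [h2] at h1
  have hD'p := isPGroup_of_isDefectGroup hD'.defect_B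
  obtain ⟨B', hB'⟩ := exists_block_of_over (P := D') hM hD'p hND' hc hdef
  have hBB : B' = B := isInducedBlock_unique hB'.ind hind
  rw [hBB] at hB'
  refine eq_of_br_eq hM hD'p hD'H hc hc' ?_ ?_
  · rw [← hB'.br_eq]
    exact br_idem_ne_zero hM hD'.isPBlock_B hD'.defect_B
  · rw [← hB'.br_eq, hD'.br_eq]

end HK

end Cfsg.Agent.H648.HarrisKnorr
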